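import Mathlib

/-!
# Extension by zero of presheaves and sheaves of modules along `Over.forget X`
-/

set_option autoImplicit false
noncomputable section
universe u

open CategoryTheory Limits Opposite DirectSum

namespace Groth.Agent.ExtZeroModLib

variable {C : Type u} [SmallCategory C] (A : Cᵒᵖ ⥤ RingCat.{u}) (X : C)

/-- The ring presheaf on the slice. -/
abbrev slice : (Over X)ᵒᵖ ⥤ RingCat.{u} := (Over.forget X).op ⋙ A

variable {A X}

/-- The summands. -/
abbrev summand (M : PresheafOfModules.{u} (slice A X)) (Y : Cᵒᵖ) (φ : Y.unop ⟶ X) :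
    ModuleCat.{u} (A.obj Y) :=
  M.obj (op (Over.mk φ))

open scoped Classical in
/-- Inclusion of a summand. -/
def inj (M : PresheafOfModules.{u} (slice A X)) (Y : Cᵒᵖ) (φ : Y.unop ⟶ X) :
    summand M Y φ →ₗ[A.obj Y] ⨁ φ, summand M Y φ :=
  DirectSum.lof (A.obj Y) _ (fun φ => summand M Y φ) φ

theorem inj_congr (M : PresheafOfModules.{u} (slice A X)) (Z : Cᵒᵖ) {V : Over X}
    {φ₁ φ₂ : Z.unop ⟶ X} (h₁ : Over.mk φ₁ ⟶ V) (h₂ : Over.mk φ₂ ⟶ V) (h : h₁.left = h₂.left)
    (m : M.obj (op V)) :
    inj M Z φ₁ (M.map h₁.op m) = inj M Z φ₂ (M.map h₂.op m) := by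
  obtain rfl : φ₁ = φ₂ := (Over.w h₁).symm.trans ((congrArg (fun t => t ≫ V.hom) h).trans (Over.w h₂))
  obtain rfl : h₁ = h₂ := Over.OverMorphism.ext h
  rfl

/-- The component of the transition map. -/
def transPart (M : PresheafOfModules.{u} (slice A X)) {Y Z : Cᵒᵖ} (g : Y ⟶ Z) (φ : Y.unop ⟶ X) :
    summand M Y φ →ₗ[A.obj Y]
      (ModuleCat.restrictScalars (A.map g).hom).obj (ModuleCat.of (A.obj Z) (⨁ φ, summand M Z φ)) where
  toFun m := inj M Z (g.unop ≫ φ) (M.map (Over.homMk (U := Over.mk (g.unop ≫ φ)) (V := Over.mk φ) g.unop).op m)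
  map_add' a b := (congrArg (inj M Z (g.unop ≫ φ)) (map_add _ a b)).trans (map_add _ _ _)
  map_smul' (r : A.obj Y) a := (congrArg (inj M Z (g.unop ≫ φ))
    (PresheafOfModules.map_smul M (X := op (Over.mk φ)) _ (show (slice A X).obj (op (Over.mk φ)) from r) a)).trans
    ((inj M Z (g.unop ≫ φ)).map_smul _ _)

open scoped Classical in
/-- Transition map. -/
def trans (M : PresheafOfModules.{u} (slice A X)) {Y Z : Cᵒᵖ} (g : Y ⟶ Z) :
    (⨁ φ, summand M Y φ) →ₗ[A.obj Y]
      (ModuleCat.restrictScalars (A.map g).hom).obj (ModuleCat.of (A.obj Z) (⨁ φ, summand M Z φ)) :=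
  DirectSum.toModule (A.obj Y) _ _ (transPart M g)

theorem trans_inj (M : PresheafOfModules.{u} (slice A X)) {Y Z : Cᵒᵖ} (g : Y ⟶ Z) (φ : Y.unop ⟶ X)
    (m : summand M Y φ) :
    trans M g (inj M Y φ m) = transPart M g φ m := by
  classical
  exact DirectSum.toModule_lof (M := fun φ => summand _ Y φ) (A.obj Y) φ m

theorem sum_ext {M : PresheafOfModules.{u} (slice A X)} {Y : Cᵒᵖ} {N : Type u} [AddCommGroup N]
    {f g : (⨁ φ, summand M Y φ) →+ N}
    (h : ∀ φ (m : summand M Y φ), f (inj M Y φ m) = g (inj M Y φ m)) : f = g := by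
  classical
  exact DirectSum.addHom_ext h

theorem modHom_ext {M : PresheafOfModules.{u} (slice A X)} {Y : Cᵒᵖ} {N : ModuleCat.{u} (A.obj Y)}
    {f g : ModuleCat.of (A.obj Y) (⨁ φ, summand M Y φ) ⟶ N}
    (h : ∀ φ (m : summand M Y φ), f (inj M Y φ m) = g (inj M Y φ m)) : f = g :=
  ModuleCat.hom_ext (LinearMap.toAddMonoidHom_injective (sum_ext h))

/-- The extension by zero of a presheaf of modules. -/
def extObj (M : PresheafOfModules.{u} (slice A X)) : PresheafOfModules.{u} A where
  obj Y := ModuleCat.of (A.obj Y) (⨁ φ, summand M Y φ)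
  map {Y Z} g := ModuleCat.ofHom (X := ⨁ φ, summand M Y φ)
    (Y := ((ModuleCat.restrictScalars (A.map g).hom).obj (ModuleCat.of (A.obj Z) (⨁ φ, summand M Z φ)) :
      ModuleCat.{u} (A.obj Y))) (trans M g)
  map_id Y := by
    refine modHom_ext fun φ m => ?_
    refine (trans_inj M _ φ m).trans ?_
    refine (inj_congr M Y (φ₁ := (𝟙 Y : Y ⟶ Y).unop ≫ φ) (φ₂ := φ)
      (Over.homMk (U := Over.mk ((𝟙 Y : Y ⟶ Y).unop ≫ φ)) (V := Over.mk φ) (𝟙 Y : Y ⟶ Y).unop)
      (𝟙 (Over.mk φ)) rfl m).trans ?_
    exact congrArg (inj M Y φ) ((M.congr_map_apply op_id m).trans ((ConcreteCategory.congr_hom (M.map_id _) m).trans rfl))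
  map_comp {Y Z W} g h := by
    refine modHom_ext fun φ m => ?_
    refine (trans_inj M _ φ m).trans ?_
    refine Eq.trans ?_ (congrArg (trans M h) (trans_inj M g φ m)).symm
    refine Eq.trans ?_ (trans_inj M h _ _).symm
    exact (inj_congr M W (φ₁ := (g ≫ h).unop ≫ φ) (φ₂ := h.unop ≫ g.unop ≫ φ)
      (Over.homMk (U := Over.mk ((g ≫ h).unop ≫ φ)) (V := Over.mk φ) (g ≫ h).unop)
      (Over.homMk (U := Over.mk (h.unop ≫ g.unop ≫ φ)) h.unop ≫
      Over.homMk (U := Over.mk (g.unop ≫ φ)) (V := Over.mk φ) g.unop) rfl m).trans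
      (congrArg (inj M W _) ((M.congr_map_apply op_comp m).trans (M.map_comp_apply _ _ m)))

theorem extObj_map_inj (M : PresheafOfModules.{u} (slice A X)) {Y Z : Cᵒᵖ} (g : Y ⟶ Z)
    (φ : Y.unop ⟶ X) (m : summand M Y φ) :
    (extObj M).map g (inj M Y φ m) = inj M Z (g.unop ≫ φ)
      (M.map (Over.homMk (U := Over.mk (g.unop ≫ φ)) (V := Over.mk φ) g.unop).op m) :=
  trans_inj M g φ m

open scoped Classical in
/-- The action on morphisms, pointwise. -/
def mapAux {M N : PresheafOfModules.{u} (slice A X)} (f : M ⟶ N) (Y : Cᵒᵖ) :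
    (⨁ φ, summand M Y φ) →ₗ[A.obj Y] ⨁ φ, summand N Y φ :=
  DFinsupp.mapRange.linearMap fun φ => (f.app (op (Over.mk φ))).hom

theorem mapAux_inj {M N : PresheafOfModules.{u} (slice A X)} (f : M ⟶ N) (Y : Cᵒᵖ) (φ : Y.unop ⟶ X)
    (m : summand M Y φ) : mapAux f Y (inj M Y φ m) = inj N Y φ (f.app (op (Over.mk φ)) m) := by
  classical
  exact DFinsupp.mapRange_single (hf := fun _ => map_zero _) ..

/-- Extension by zero of presheaves of modules. -/
def ext₀ : PresheafOfModules.{u} (slice A X) ⥤ PresheafOfModules.{u} A where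
  obj M := extObj M
  map {M N} f :=
    { app := fun Y => ModuleCat.ofHom (mapAux f Y)
      naturality := fun {Y Z} g => by
        refine modHom_ext fun φ m => ?_
        refine (congrArg (mapAux f Z) (trans_inj M g φ m)).trans ?_
        refine (mapAux_inj f Z _ _).trans ?_
        refine Eq.trans ?_ (congrArg (trans N g) (mapAux_inj f Y φ m)).symm
        refine Eq.trans ?_ (trans_inj N g φ _).symm
        exact congrArg (inj N Z _) (PresheafOfModules.naturality_apply f _ m) }
  map_id M := by
    refine PresheafOfModules.hom_ext fun Y => modHom_ext fun φ m => ?_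
    exact mapAux_inj (𝟙 M) Y φ m
  map_comp f g := by
    refine PresheafOfModules.hom_ext fun Y => modHom_ext fun φ m => ?_
    exact (mapAux_inj (f ≫ g) Y φ m).trans
      ((congrArg (mapAux g Y) (mapAux_inj f Y φ m)).trans (mapAux_inj g Y φ _)).symm

variable (A X) in
/-- Restriction to the slice. -/
abbrev res : PresheafOfModules.{u} A ⥤ PresheafOfModules.{u} (slice A X) :=
  PresheafOfModules.pushforward (F := Over.forget X) (𝟙 (slice A X))

/-- The unit, at an object. -/
def unitApp (M : PresheafOfModules.{u} (slice A X)) : M ⟶ (res A X).obj (extObj M) where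
  app U := ModuleCat.ofHom (Y := ((res A X).obj (extObj M)).obj U)
    { toFun := fun m => inj M (op U.unop.left) U.unop.hom m
      map_add' := fun a b => map_add (inj M (op U.unop.left) U.unop.hom) a b
      map_smul' := fun r a => (inj M (op U.unop.left) U.unop.hom).map_smul r a }
  naturality {U V} h := by
    refine ModuleCat.hom_ext (LinearMap.ext fun m => ?_)
    refine Eq.trans ?_ (extObj_map_inj M ((Over.forget X).map h.unop).op U.unop.hom m).symm
    exact inj_congr M (op V.unop.left) (φ₁ := V.unop.hom) (φ₂ := h.unop.left ≫ U.unop.hom) h.unop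
      (Over.homMk (U := Over.mk (h.unop.left ≫ U.unop.hom)) (V := U.unop) h.unop.left) rfl m

open scoped Classical in
/-- The counit, pointwise. -/
def counitAux (N : PresheafOfModules.{u} A) (Y : Cᵒᵖ) :
    (⨁ φ, summand ((res A X).obj N) Y φ) →ₗ[A.obj Y] N.obj Y :=
  DirectSum.toModule (A.obj Y) _ _ fun φ =>
    { toFun := fun m => m
      map_add' := fun _ _ => rfl
      map_smul' := fun _ _ => rfl }

theorem counitAux_inj (N : PresheafOfModules.{u} A) (Y : Cᵒᵖ) (φ : Y.unop ⟶ X)
    (m : summand ((res A X).obj N) Y φ) : counitAux N Y (inj _ Y φ m) = m := by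
  classical
  exact DirectSum.toModule_lof (M := fun φ => summand _ Y φ) (A.obj Y) φ m

/-- The counit, at an object. -/
def counitApp (N : PresheafOfModules.{u} A) : extObj ((res A X).obj N) ⟶ N where
  app Y := ModuleCat.ofHom (counitAux N Y)
  naturality {Y Z} g := by
    refine modHom_ext fun φ m => ?_
    refine (congrArg (counitAux N Z) (trans_inj _ g φ m)).trans ?_
    refine (counitAux_inj N Z _ _).trans ?_
    exact (congrArg (N.map g) (counitAux_inj N Y φ m)).symm

variable (A X) in
/-- Extension by zero is left adjoint to restriction. -/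
def adj₀ : ext₀ (A := A) (X := X) ⊣ res A X where
  unit :=
    { app := unitApp
      naturality := fun M N f => by
        refine PresheafOfModules.hom_ext fun U => ModuleCat.hom_ext (LinearMap.ext fun m => ?_)
        exact (mapAux_inj f (op U.unop.left) U.unop.hom m).symm }
  counit :=
    { app := counitApp
      naturality := fun M N f => by
        refine PresheafOfModules.hom_ext fun Y => modHom_ext fun φ m => ?_
        refine (congrArg (counitAux N Y) (mapAux_inj _ Y φ m)).trans ?_
        refine (counitAux_inj N Y φ _).trans ?_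
        exact (congrArg (f.app Y) (counitAux_inj M Y φ m)).symm }
  left_triangle_components M := by
    refine PresheafOfModules.hom_ext fun Y => modHom_ext fun φ m => ?_
    refine (congrArg (counitAux _ Y) (mapAux_inj _ Y φ m)).trans ?_
    exact counitAux_inj _ Y φ _
  right_triangle_components N := by
    refine PresheafOfModules.hom_ext fun U => ModuleCat.hom_ext (LinearMap.ext fun m => ?_)
    exact counitAux_inj N (op U.unop.left) U.unop.hom m

theorem mono_map {M N : PresheafOfModules.{u} (slice A X)} (f : M ⟶ N) [Mono f] :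
    Mono (ext₀.map f) := by
  classical
  refine PresheafOfModules.mono_of_injective fun Y => ?_
  exact (DFinsupp.mapRange_injective (fun φ => (f.app (op (Over.mk φ))).hom) (fun φ => map_zero _)).2
    fun φ => PresheafOfModules.injective_of_mono f _

instance : (ext₀ (A := A) (X := X)).Additive where
  map_add := by
    intros M N f g
    refine PresheafOfModules.hom_ext fun Y => modHom_ext fun φ m => ?_
    exact ((mapAux_inj (f + g) Y φ m).trans (map_add (inj N Y φ) _ _)).trans
      (congrArg₂ (· + ·) (mapAux_inj f Y φ m) (mapAux_inj g Y φ m)).symm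

theorem preservesFiniteLimits_ext₀ : PreservesFiniteLimits (ext₀ (A := A) (X := X)) := by
  haveI : (ext₀ (A := A) (X := X)).IsLeftAdjoint := (adj₀ A X).isLeftAdjoint
  haveI : (ext₀ (A := A) (X := X)).PreservesMonomorphisms := ⟨fun f _ => mono_map f⟩
  haveI := (ext₀ (A := A) (X := X)).preservesHomology_of_preservesMonos_and_cokernels
  exact Functor.preservesFiniteLimits_of_preservesHomology _

section Sheaf

variable (J : GrothendieckTopology C) (R : Sheaf J RingCat.{u}) (X' : C)

/-- Extension by zero for sheaves of modules. -/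
def ext : SheafOfModules.{u} (R.over X') ⥤ SheafOfModules.{u} R :=
  SheafOfModules.forget (R.over X') ⋙ ext₀ (A := R.obj) (X := X') ⋙
    PresheafOfModules.sheafification (R₀ := R.obj) (𝟙 R.obj)

/-- The adjunction for sheaves of modules. -/
def adj : ext J R X' ⊣ SheafOfModules.overFunctor.{u} R X' :=
  Adjunction.mkOfHomEquiv
    { homEquiv := fun F G ↦
        ((PresheafOfModules.sheafificationAdjunction (𝟙 R.obj)).homEquiv _ _).trans
            (((adj₀ R.obj X').homEquiv F.val G.val).trans
              ((SheafOfModules.fullyFaithfulForget (R.over X')).homEquiv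
                (Y := (SheafOfModules.overFunctor R X').obj G)).symm)
      homEquiv_naturality_left_symm := fun {F' F G} f g =>
        (congrArg ((PresheafOfModules.sheafificationAdjunction (𝟙 R.obj)).homEquiv _ _).symm
          ((adj₀ R.obj X').homEquiv_naturality_left_symm (X' := F'.val) (X := F.val) (Y := G.val) f.val g.val)).trans
          ((PresheafOfModules.sheafificationAdjunction (𝟙 R.obj)).homEquiv_naturality_left_symm _ _)
      homEquiv_naturality_right := by
        tauto }

theorem exact_ext : PreservesFiniteLimits (ext J R X') ∧ PreservesFiniteColimits (ext J R X') := by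
  haveI : (ext J R X').IsLeftAdjoint := (adj J R X').isLeftAdjoint
  haveI := preservesFiniteLimits_ext₀ (A := R.obj) (X := X')
  haveI : PreservesFiniteLimits (ext₀ (A := R.obj) (X := X') ⋙
      PresheafOfModules.sheafification (R₀ := R.obj) (𝟙 R.obj)) := comp_preservesFiniteLimits _ _
  exact ⟨@comp_preservesFiniteLimits _ _ _ _ _ _ (SheafOfModules.forget (R.over X')) (ext₀ (A := R.obj) (X := X') ⋙
      PresheafOfModules.sheafification (R₀ := R.obj) (𝟙 R.obj)) inferInstance ‹_›, inferInstance⟩

theorem injective_unit (M : SheafOfModules.{u} (R.over X')) (U : (Over X')ᵒᵖ) :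
    Function.Injective (((adj J R X').unit.app M).val.app U) := by
  classical
  refine (injective_iff_map_eq_zero _).2 fun (x : M.val.obj U) hx => ?_
  have hx' : (toSheafify J (extObj M.val).presheaf).app (op U.unop.left)
      (inj M.val (op U.unop.left) U.unop.hom x) =
        (toSheafify J (extObj M.val).presheaf).app (op U.unop.left) 0 :=
    hx.trans (map_zero _).symm
  have hS := Presheaf.equalizerSieve_mem J _ _ _ hx'
  refine ((Presieve.IsSheaf.isSeparated ((isSheaf_iff_isSheaf_of_type _ _).1
    (Presheaf.isSheaf_comp_of_isSheaf _ _ (forget AddCommGrpCat) M.isSheaf))) _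
      (J.overEquiv_symm_mem_over U.unop _ hS)).ext fun V f hf => ?_
  have hf' : (extObj M.val).map f.left.op (inj M.val (op U.unop.left) U.unop.hom x) =
      (extObj M.val).map f.left.op 0 := hf
  replace hf' := (extObj_map_inj M.val f.left.op U.unop.hom x).symm.trans (hf'.trans (map_zero _))
  have h2 : inj M.val (op V.left) V.hom (M.val.map f.op x) = 0 :=
    (inj_congr M.val (op V.left) f (Over.homMk (U := Over.mk (f.left ≫ U.unop.hom)) f.left) rfl x).trans hf'
  have h3 : M.val.map f.op x = 0 :=
    (DirectSum.lof_apply (R := R.obj.obj (op V.left))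
      (M := fun φ => summand M.val (op V.left) φ) V.hom _).symm.trans (DFunLike.congr_fun h2 V.hom)
  exact h3.trans (map_zero (M.val.map f.op).hom).symm

theorem faithful_ext : (ext J R X').Faithful := by
  haveI : ∀ M, Mono ((adj J R X').unit.app M) := fun M =>
    (SheafOfModules.forget _).mono_of_mono_map
      (PresheafOfModules.mono_of_injective fun U => injective_unit J R X' M U)
  exact (adj J R X').faithful_L_of_mono_unit_app

end Sheaf

end Groth.Agent.ExtZeroModLib
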